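import Groth.Agent.FibreDim.LowerSemicont
import Groth.Agent.AlgSpBasic.DimIntegral
import Groth.Agent.DescentBase.ClosureRange
import Groth.Agent.Variety2.DimScheme

/-!
Dimension of the closed fibre of the closure of a subset of the generic fibre over a valuation ring.
-/

set_option autoImplicit false

universe u

open CategoryTheory CategoryTheory.Limits AlgebraicGeometry Topology

noncomputable section

namespace Groth.Sga3.DerDim

theorem strictMono_of_isEmbedding {X Y : Scheme.{u}} (F : X → Y) (hF : IsEmbedding F) : StrictMono F := by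
  intro a b hab
  refine lt_iff_le_not_ge.mpr ⟨(show b ⤳ a from hab.le).map hF.continuous, fun h => hab.not_ge ?_⟩
  exact hF.isInducing.specializes_iff.1 (show F a ⤳ F b from h)

theorem height_apply_le {X Y : Scheme.{u}} (F : X → Y) (hF : IsClosedEmbedding F) (x : X) :
    Order.height (F x) ≤ Order.height x := by
  refine Order.height_le fun l hl => ?_
  have hmem : ∀ i, l i ∈ Set.range F := fun i => by
    have hle : l i ≤ F x := hl ▸ l.monotone (Fin.le_last i)
    exact (show F x ⤳ l i from hle).mem_closed hF.isClosed_range ⟨x, rfl⟩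
  choose g hg using hmem
  have hmono : StrictMono g := fun i j hij => by
    have hlt : F (g i) < F (g j) := by rw [hg, hg]; exact l.strictMono hij
    refine lt_iff_le_not_ge.mpr ⟨?_, fun h => hlt.not_ge ?_⟩
    · exact hF.isInducing.specializes_iff.1 (show F (g j) ⤳ F (g i) from hlt.le)
    · exact (show g i ⤳ g j from h).map hF.continuous
  have hlast : g (Fin.last _) = x := hF.injective ((hg _).trans hl)
  exact Order.length_le_height (p := LTSeries.mk l.length g hmono) hlast.le

/-- Points of a scheme mapping into one fibre, as points of that fibre. -/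
def toFib {X Q S : Scheme.{u}} (h : Q ⟶ S) {c : S} (i : X → Q) (hi : ∀ x, h.base (i x) = c) (x : X) : h.fiber c :=
  (h.fiberHomeo c).symm ⟨i x, hi x⟩

theorem fiberι_toFib {X Q S : Scheme.{u}} (h : Q ⟶ S) {c : S} (i : X → Q) (hi : ∀ x, h.base (i x) = c) (x : X) :
    (h.fiberι c).base (toFib h i hi x) = i x :=
  congrArg Subtype.val ((h.fiberHomeo c).apply_symm_apply ⟨i x, hi x⟩)

theorem height_fibre {X S : Scheme.{u}} (h : X ⟶ S) [LocallyOfFiniteType h] {y : S} (w : h.fiber y) :
    ∃ n : ℕ, Groth.Variety2.Dim.relTrdeg h ((h.fiberι y).base w) = n ∧ Order.height w = n := by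
  suffices key : ∀ (x : X) (y : S) (_ : h.base x = y) (w : h.fiber y), (h.fiberι y).base w = x →
      ∃ n : ℕ, Groth.Variety2.Dim.relTrdeg h x = n ∧ Order.height w = n from
    key _ y (Groth.FibreDim.apply_fiberι h y w) w rfl
  rintro x _ rfl w hw
  obtain rfl : w = h.asFiber x :=
    (h.fiberι _).isEmbedding.injective (hw.trans (h.fiberι_asFiber x).symm)
  exact Groth.FibreDim.exists_relTrdeg_eq_height h x

/-- If the closed fibre part of `j` lies in the closure of the subscheme `i` of the generic fibre, its points
have height at most those of `i`. -/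
theorem height_le_of_closure {A : Type u} [CommRing A] [IsDomain A] [ValuationRing A]
    {Q N D : Scheme.{u}} (h : Q ⟶ Spec (CommRingCat.of A)) [LocallyOfFiniteType h]
    (i : N ⟶ Q) [QuasiCompact i] (hiE : IsEmbedding i.base)
    (hi : ∀ v, h.base (i.base v) = (⟨⊥, Ideal.isPrime_bot⟩ : PrimeSpectrum A))
    (hicl : ∀ q ∈ closure (Set.range i.base), h.base q = (⟨⊥, Ideal.isPrime_bot⟩ : PrimeSpectrum A) →
      q ∈ Set.range i.base)
    {n : ℕ∞} (hN : ∀ v : N, Order.height v ≤ n)
    (j : D ⟶ Q) [IsIntegralHom j] (hj : ∀ x, h.base (j.base x) = IsLocalRing.closedPoint A)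
    (hsub : Set.range j.base ⊆ closure (Set.range i.base)) (x : D) : Order.height x ≤ n := by
  let F := toFib h (c := IsLocalRing.closedPoint A) j.base hj
  have hF : StrictMono F := fun a b hab => by
    have hlt : j.base a < j.base b := Groth.AlgSpBasic.strictMono_of_integral j hab
    have e := fiberι_toFib h (c := IsLocalRing.closedPoint A) j.base hj
    refine lt_iff_le_not_ge.mpr ⟨(h.fiberι _).isEmbedding.isInducing.specializes_iff.1 ?_, fun h' => hlt.not_ge ?_⟩
    · rw [e, e]; exact hlt.le
    · show j.base a ⤳ j.base b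
      rw [← e, ← e]; exact (show F a ⤳ F b from h').map (h.fiberι _).continuous
  let E := toFib h (c := (⟨⊥, Ideal.isPrime_bot⟩ : PrimeSpectrum A)) i.base hi
  have heq : (fun v => (h.fiberι _).base (E v)) = i.base := funext (fiberι_toFib h i.base hi)
  have hE : IsClosedEmbedding E := by
    refine ⟨IsEmbedding.of_comp ((h.fiberHomeo _).symm.continuous.comp
      (i.continuous.subtype_mk hi)) (h.fiberι _).continuous (by rw [Function.comp_def, heq]; exact hiE), ?_⟩
    have : Set.range E = (h.fiberι _).base ⁻¹' closure (Set.range i.base) := by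
      ext q
      constructor
      · rintro ⟨v, rfl⟩
        exact subset_closure ⟨v, (fiberι_toFib h i.base hi v).symm⟩
      · intro hq
        obtain ⟨v, hv⟩ := hicl _ hq (Groth.FibreDim.apply_fiberι h _ q)
        exact ⟨v, (h.fiberι _).isEmbedding.injective ((fiberι_toFib h i.base hi v).trans hv)⟩
    rw [this]
    exact isClosed_closure.preimage (h.fiberι _).continuous
  refine (Order.height_le_height_apply_of_strictMono F hF x).trans ?_
  obtain ⟨v, hv⟩ := Groth.DescentBase.exists_specializes_of_mem_closure_range i (hsub ⟨x, rfl⟩)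
  obtain ⟨a, ha, ha'⟩ := height_fibre h (F x)
  obtain ⟨b, hb, hb'⟩ := height_fibre h (E v)
  rw [fiberι_toFib h (c := IsLocalRing.closedPoint A) j.base hj] at ha
  rw [fiberι_toFib h i.base hi] at hb
  have hle := Groth.FibreDim.relTrdeg_le_of_valuation h hv (hi v) (hj x)
  rw [ha, hb, Nat.cast_le] at hle
  calc Order.height (F x) = (a : ℕ∞) := ha'
    _ ≤ (b : ℕ∞) := Nat.cast_le.2 hle
    _ = Order.height (E v) := hb'.symm
    _ ≤ Order.height v := height_apply_le E hE v
    _ ≤ n := hN v

end Groth.Sga3.DerDim
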