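import Groth.Agent.Sga3.CommSpread.Adj
import Groth.Agent.GenSub.Word
import Groth.Agent.GrpschAbsch.FibreFlat
import Mathlib.AlgebraicGeometry.Morphisms.Flat

/-!
Words in a morphism over a general base, and their relation with words on a base change to a field.
-/

set_option autoImplicit false
set_option backward.isDefEq.respectTransparency false

universe u

open CategoryTheory CategoryTheory.Limits MonoidalCategory CartesianMonoidalCategory MonObj GrpObj AlgebraicGeometry

noncomputable section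

namespace Groth.Sga3.DerDim

open Groth.Sga3.CommSpread

variable {S : Scheme.{u}} {G X : Over S} [GrpObj G] (f : X ⟶ G)

/-- Sources of words. -/
def sWord (X : Over S) : List Bool → Over S
  | [] => 𝟙_ _
  | _ :: l => X ⊗ sWord X l

/-- Words in `f` and its inverse. -/
def sMap : ∀ l : List Bool, sWord X l ⟶ G
  | [] => 1
  | b :: l => (fst X (sWord X l) ≫ if b then f else f⁻¹) * (snd X (sWord X l) ≫ sMap l)

omit f in
theorem flat_sWord [Flat X.hom] : ∀ l : List Bool, Flat (sWord X l).hom
  | [] => inferInstanceAs (Flat (𝟙 S))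
  | _ :: l => by
      have := flat_sWord l
      show Flat (pullback.fst X.hom (sWord X l).hom ≫ X.hom)
      infer_instance

/-- Words factor through a subgroup of a base change through which `f` factors. -/
theorem sMap_factor {S' : Scheme.{u}} (t : S' ⟶ S) {N : Over S'} [GrpObj N] (i : N ⟶ Red.bc t G) [IsMonHom i]
    (hf : ∀ (Z : Over S') (z : push t Z ⟶ X), ∃ m : Z ⟶ N, m ≫ i = adj t (z ≫ f)) :
    ∀ (l : List Bool) (Z : Over S') (z : push t Z ⟶ sWord X l), ∃ m : Z ⟶ N, m ≫ i = adj t (z ≫ sMap f l)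
  | [], Z, z => ⟨1, by
      rw [← adjGrp_apply]
      simp [sMap]⟩
  | β :: l, Z, z => by
      obtain ⟨m₂, h₂⟩ := sMap_factor t i hf l Z (z ≫ snd X (sWord X l))
      obtain ⟨m₁, h₁⟩ := hf Z (z ≫ fst X (sWord X l))
      refine ⟨(if β then m₁ else m₁⁻¹) * m₂, ?_⟩
      show _ = adjGrp t Z G (z ≫ ((fst X (sWord X l) ≫ if β then f else f⁻¹) * (snd X (sWord X l) ≫ sMap f l)))
      rw [MonObj.mul_comp, h₂, MonObj.comp_mul, map_mul, ← Category.assoc, ← Category.assoc, ← adjGrp_apply]
      congr 1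
      cases β
      · simp only [Bool.false_eq_true, if_false, GrpObj.inv_comp, h₁, GrpObj.comp_inv, map_inv, adjGrp_apply]
      · simpa [adjGrp_apply] using h₁

/-- Words over a field lift to words over the base. -/
theorem wordMap_lift {K : Type u} [Field K] (t : Spec (CommRingCat.of K) ⟶ S)
    {X' : Over (Spec (CommRingCat.of K))} (f' : X' ⟶ Red.bc t G)
    (hf : ∀ (Z : Over (Spec (CommRingCat.of K))) (z : Z ⟶ X'), ∃ z' : push t Z ⟶ X, adj t (z' ≫ f) = z ≫ f') :
    ∀ (l : List Bool) (Z : Over (Spec (CommRingCat.of K))) (z : Z ⟶ Groth.GenSub.word X' l),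
      ∃ z' : push t Z ⟶ sWord X l, adj t (z' ≫ sMap f l) = z ≫ Groth.GenSub.wordMap f' l
  | [], Z, z => ⟨toUnit _, by
      rw [← adjGrp_apply]
      simp [sMap, Groth.GenSub.wordMap]⟩
  | β :: l, Z, z => by
      obtain ⟨z₂, h₂⟩ := wordMap_lift t f' hf l Z (z ≫ snd X' (Groth.GenSub.word X' l))
      obtain ⟨z₁, h₁⟩ := hf Z (z ≫ fst X' (Groth.GenSub.word X' l))
      refine ⟨lift z₁ z₂, ?_⟩
      show adjGrp t Z G (lift z₁ z₂ ≫ ((fst X (sWord X l) ≫ if β then f else f⁻¹) * (snd X (sWord X l) ≫ sMap f l))) =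
        z ≫ ((fst X' _ ≫ if β then f' else f'⁻¹) * (snd X' _ ≫ Groth.GenSub.wordMap f' l))
      rw [MonObj.comp_mul, lift_fst_assoc, lift_snd_assoc, map_mul, adjGrp_apply, adjGrp_apply, h₂, MonObj.comp_mul,
        ← Category.assoc, ← Category.assoc]
      congr 1
      cases β
      · simp only [Bool.false_eq_true, if_false, GrpObj.comp_inv, ← adjGrp_apply, map_inv]
        rw [adjGrp_apply, h₁]
      · simpa using h₁

end Groth.Sga3.DerDim
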