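import Groth.Agent.Sga3.DerDim.Val
import Groth.Agent.Sga3.DerDim.Height
import Groth.Agent.Sga3.DerDim.Words
import Groth.Agent.URad.Radical
import Groth.Agent.GrpschAbsch.GrpEtaleRel
import Groth.Agent.DescentBase.DimEtale
import Groth.Agent.DescentBase.UnivOpenField
import Groth.Agent.AlgGrp1.CartanField

/-!
The dimension of the derived group of the geometric fibres does not increase under specialization.
-/

set_option autoImplicit false
set_option backward.isDefEq.respectTransparency false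

universe u

open CategoryTheory CategoryTheory.Limits MonoidalCategory CartesianMonoidalCategory MonObj GrpObj AlgebraicGeometry Topology

noncomputable section

namespace Groth.Sga3.DerDim

open Groth.Sga3.CommSpread

/-- The generated closed subgroup of the commutator morphism over an algebraically closed field is normal. -/
theorem exists_derived {K : Type u} [Field K] [IsAlgClosed K] (H : Over (Spec (CommRingCat.of K))) [GrpObj H]
    [Smooth H.hom] :
    ∃ (D : Over (Spec (CommRingCat.of K))) (_ : GrpObj D) (d : D ⟶ H)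
      (w : ∀ l, Groth.GenSub.word (H ⊗ H) l ⟶ D),
      IsMonHom d ∧ IsClosedImmersion d.left ∧ AlgGrp.IsNormalHom d ∧
      (∀ (T : Over (Spec (CommRingCat.of K))) (g h : T ⟶ H), ∃ m : T ⟶ D, g * h * g⁻¹ * h⁻¹ = m ≫ d) ∧
      (∀ l, w l ≫ d = Groth.GenSub.wordMap (comm (𝟙 H) (𝟙 H)) l) ∧ Dense (⋃ l, Set.range (w l).left) := by
  haveI : GeometricallyReduced H.hom := Groth.AlgGrp1.geometricallyReduced_of_smooth H.hom
  haveI : Smooth (H ⊗ H).hom := inferInstanceAs (Smooth (pullback.fst H.hom H.hom ≫ H.hom))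
  haveI : GeometricallyReduced (H ⊗ H).hom := Groth.AlgGrp1.geometricallyReduced_of_smooth _
  obtain ⟨D, _, d, w, _, _, _, hw, hd, ⟨f', hf'⟩, hmin⟩ := Groth.GenSub.exists_generated (comm (𝟙 H) (𝟙 H))
  haveI : LocallyOfFiniteType D.hom := by rw [← Over.w d]; infer_instance
  haveI : Smooth D.hom := Groth.GrpschAbsch.smooth_of_geometricallyReduced D
  have hcomm : ∀ (T : Over (Spec (CommRingCat.of K))) (g h : T ⟶ H), g * h * g⁻¹ * h⁻¹ = (lift g h ≫ f') ≫ d :=
    fun T g h => by rw [Category.assoc, hf', lift_comm, Category.comp_id, Category.comp_id]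
  refine ⟨D, inferInstance, d, w, inferInstance, inferInstance,
    Groth.URad.isNormalHom_of_points d fun g x => ?_, fun T g h => ⟨_, hcomm T g h⟩, hw, hd⟩
  let P (h : 𝟙_ (Over (Spec (CommRingCat.of K))) ⟶ H) : H ⟶ H := (toUnit H ≫ h) * 𝟙 H * (toUnit H ≫ h)⁻¹
  have hP : ∀ (h : 𝟙_ (Over (Spec (CommRingCat.of K))) ⟶ H) {T : Over (Spec (CommRingCat.of K))} (y : T ⟶ H),
      y ≫ P h = (toUnit T ≫ h) * y * (toUnit T ≫ h)⁻¹ := fun h T y => by
    simp [P, MonObj.comp_mul, GrpObj.comp_inv]
  have hPP : ∀ h, P h ≫ P h⁻¹ = 𝟙 H := fun h => by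
    rw [hP]
    simp [P, GrpObj.comp_inv, _root_.mul_assoc]
  haveI : ∀ h, IsMonHom (P h) := fun h => Groth.AlgGrp1.isMonHom_of_points _ fun T a b => by
    simp only [hP]; group
  have hiso : ∀ h, IsIso (P h) := fun h => ⟨P h⁻¹, hPP h, by simpa using hPP h⁻¹⟩
  haveI := hiso g⁻¹
  haveI : IsClosedImmersion (d ≫ P g⁻¹).left := by
    haveI : IsIso (P g⁻¹).left := inferInstanceAs (IsIso ((Over.forget _).map (P g⁻¹)))
    show IsClosedImmersion (d.left ≫ (P g⁻¹).left)
    infer_instance
  obtain ⟨j, hj⟩ := hmin D inferInstance (d ≫ P g⁻¹) inferInstance inferInstance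
    ⟨lift (fst H H ≫ P g) (snd H H ≫ P g) ≫ f', by
      rw [Category.assoc, reassoc_of% hf', ← Category.assoc, lift_comm, Category.comp_id, Category.comp_id]
      simp only [MonObj.mul_comp, GrpObj.inv_comp, Category.assoc]
      rw [show P g ≫ P g⁻¹ = 𝟙 H from hPP g, Category.comp_id, Category.comp_id]
      simp [Groth.Sga3.CommSpread.comm]⟩
  refine ⟨x ≫ j, ?_⟩
  have h1 : d ≫ P g = j ≫ d := by
    conv_lhs => rw [← hj]
    rw [Category.assoc, Category.assoc,
      show P g⁻¹ ≫ P g = 𝟙 H by simpa using hPP g⁻¹, Category.comp_id]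
  rw [Category.assoc, ← h1, ← Category.assoc, hP, toUnit_unique (toUnit _) (𝟙 _), Category.id_comp]

/-- A closed subgroup of dimension at most `n` containing the commutators of the geometric fibre at `s` gives one
at every specialization. -/
theorem exists_special {S : Scheme.{u}} (G : Over S) [GrpObj G] [Smooth G.hom] [QuasiSeparated G.hom]
    {s s' : S} (hs : s ⤳ s') (n : ℕ)
    (N : Over (Spec (CommRingCat.of (AlgebraicClosure (S.residueField s))))) [GrpObj N]
    (i : N ⟶ Red.geomFibre s G) [IsMonHom i] [IsClosedImmersion i.left] [CompactSpace N.left]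
    (hc : ∀ (T : Over (Spec (CommRingCat.of (AlgebraicClosure (S.residueField s))))) (g h : T ⟶ Red.geomFibre s G),
      ∃ m : T ⟶ N, g * h * g⁻¹ * h⁻¹ = m ≫ i)
    (hdim : topologicalKrullDim ↥N.left ≤ (n : WithBot ℕ∞)) :
    ∃ (D : Over (Spec (CommRingCat.of (AlgebraicClosure (S.residueField s'))))) (_ : GrpObj D)
      (d : D ⟶ Red.geomFibre s' G), IsMonHom d ∧ IsClosedImmersion d.left ∧ AlgGrp.IsNormalHom d ∧
      (∀ (T : Over (Spec (CommRingCat.of (AlgebraicClosure (S.residueField s'))))) (g h : T ⟶ Red.geomFibre s' G),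
        ∃ m : T ⟶ D, g * h * g⁻¹ * h⁻¹ = m ≫ d) ∧
      topologicalKrullDim ↥D.left ≤ (n : WithBot ℕ∞) := by
  obtain ⟨A, _, _, _, t, t₁, F, _, t₀, ψ, _, _, ht₁, ht₀, hp₁, hp₀⟩ := exists_valuation_geomPt hs
  let H := Red.geomFibre s' G
  haveI : Smooth H.hom := inferInstanceAs (Smooth (pullback.snd G.hom (Red.geomPt s')))
  obtain ⟨D, _, d, w, hd₁, hd₂, hd₃, hd₄, hw, hdense⟩ := exists_derived H
  refine ⟨D, inferInstance, d, hd₁, hd₂, hd₃, hd₄, ?_⟩
  let c : G ⊗ G ⟶ G := comm (𝟙 G) (𝟙 G)
  -- the words over the generic geometric point lie in N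
  have hN : ∀ l, Set.range ((Over.pullback (Red.geomPt s)).map (sMap c l)).left.base ⊆ Set.range i.left.base := by
    intro l
    obtain ⟨m, hm⟩ := sMap_factor c (Red.geomPt s) i (fun Z z => by
      obtain ⟨m, hm⟩ := hc Z (adj (Red.geomPt s) (z ≫ fst G G)) (adj (Red.geomPt s) (z ≫ snd G G))
      refine ⟨m, ?_⟩
      rw [← adjGrp_apply, adjGrp_comm, lift_comm, CategoryTheory.Functor.map_id, Category.comp_id, Category.comp_id]
      exact hm.symm) l (Red.bc (Red.geomPt s) (sWord (G ⊗ G) l)) ((adj (Red.geomPt s)).symm (𝟙 _))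
    rw [adj_comp, Equiv.apply_symm_apply, Category.id_comp] at hm
    rintro _ ⟨a, rfl⟩
    exact ⟨m.left.base a, (Scheme.Hom.comp_apply _ _ _).symm.trans congr(($hm).left.base a)⟩
  -- the scheme over the valuation ring
  let Q := Red.bc t G
  have R := IsPullback.of_hasPullback G.hom t
  let e : pullback H.hom ψ ⟶ Q.left := R.lift (pullback.fst H.hom ψ ≫ pullback.fst G.hom (Red.geomPt s'))
    (pullback.snd H.hom ψ ≫ t₀) (by
      rw [Category.assoc, Category.assoc, pullback.condition, ht₀]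
      exact pullback.condition_assoc _)
  have sqe : IsPullback e (pullback.snd H.hom ψ) Q.hom t₀ := by
    refine IsPullback.of_right ?_ (R.lift_snd _ _ _) R
    rw [R.lift_fst, ht₀]
    exact (IsPullback.of_hasPullback H.hom ψ).paste_horiz (IsPullback.of_hasPullback G.hom (Red.geomPt s'))
  haveI : IsIntegralHom e := MorphismProperty.of_isPullback sqe.flip ‹IsIntegralHom t₀›
  let j₁ : (Red.geomFibre s G).left ⟶ Q.left := R.lift (pullback.fst G.hom (Red.geomPt s))
    (pullback.snd G.hom (Red.geomPt s) ≫ t₁) (by rw [Category.assoc, ht₁]; exact pullback.condition)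
  have sq₁ : IsPullback j₁ (Red.geomFibre s G).hom Q.hom t₁ := by
    refine IsPullback.of_right ?_ (R.lift_snd _ _ _) R
    rw [R.lift_fst, ht₁]
    exact IsPullback.of_hasPullback _ _
  haveI : IsPreimmersion j₁ := MorphismProperty.of_isPullback sq₁.flip ‹IsPreimmersion t₁›
  let iQ : N.left ⟶ Q.left := i.left ≫ j₁
  haveI : LocallyOfFiniteType Q.hom := inferInstanceAs (LocallyOfFiniteType (pullback.snd G.hom t))
  haveI : Flat Q.hom := inferInstanceAs (Flat (pullback.snd G.hom t))
  haveI : QuasiSeparated Q.hom := inferInstanceAs (QuasiSeparated (pullback.snd G.hom t))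
  haveI : QuasiCompact (iQ ≫ Q.hom) := (quasiCompact_iff_compactSpace _).2 ‹CompactSpace ↥N.left›
  haveI : QuasiCompact iQ := QuasiCompact.of_comp iQ Q.hom
  have hiE : IsEmbedding iQ.base := (i.left ≫ j₁).isEmbedding
  have hbot : ∀ b, Q.hom.base (j₁.base b) = (⟨⊥, Ideal.isPrime_bot⟩ : PrimeSpectrum A) := fun b => by
    rw [← Scheme.Hom.comp_apply, sq₁.w, Scheme.Hom.comp_apply]
    exact hp₁ _
  have hj₁ : ∀ q, Q.hom.base q = (⟨⊥, Ideal.isPrime_bot⟩ : PrimeSpectrum A) → ∃ b, j₁.base b = q := fun q hq => by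
    obtain ⟨b, hb, -⟩ := Scheme.exists_preimage_of_isPullback sq₁ q (IsLocalRing.closedPoint _)
      (hq.trans (hp₁ _).symm)
    exact ⟨b, hb⟩
  have hicl : ∀ q ∈ closure (Set.range iQ.base), Q.hom.base q = (⟨⊥, Ideal.isPrime_bot⟩ : PrimeSpectrum A) →
      q ∈ Set.range iQ.base := by
    intro q hq hqb
    obtain ⟨b, rfl⟩ := hj₁ q hqb
    have hb : b ∈ closure (Set.range i.left.base) := by
      rw [j₁.isEmbedding.isInducing.closure_eq_preimage_closure_image, Set.mem_preimage, ← Set.range_comp]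
      exact hq
    obtain ⟨v, hv⟩ := i.left.isClosedEmbedding.isClosed_range.closure_subset hb
    exact ⟨v, (Scheme.Hom.comp_apply _ _ _).trans (congrArg j₁.base hv)⟩
  -- the derived group over the closed point
  let D' := (Red.bc ψ D).left
  let π : D' ⟶ D.left := pullback.fst D.hom ψ
  have hh := Groth.AlgGrp1.fpqc_fieldMap ψ
  haveI : Flat π := MorphismProperty.pullback_fst _ _ hh.1.2
  haveI : Surjective π := MorphismProperty.pullback_fst _ _ hh.1.1
  haveI : UniversallyOpen ψ := Groth.DescentBase.universallyOpen_of_field _ ψ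
  haveI : UniversallyOpen π := MorphismProperty.pullback_fst _ _ ‹UniversallyOpen ψ›
  let eψ := ((Over.pullback ψ).map d).left
  haveI : IsClosedImmersion eψ :=
    MorphismProperty.of_isPullback (Groth.GrpschAbsch.FibreFlat.isPullback_map ψ d) hd₂
  let j : D' ⟶ Q.left := eψ ≫ e
  haveI : IsIntegralHom j := inferInstanceAs (IsIntegralHom (eψ ≫ e))
  have hj : ∀ x, Q.hom.base (j.base x) = IsLocalRing.closedPoint A := fun x => by
    rw [← Scheme.Hom.comp_apply, show j ≫ Q.hom = (eψ ≫ pullback.snd H.hom ψ) ≫ t₀ by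
      simp only [j, Category.assoc, sqe.w], Scheme.Hom.comp_apply]
    exact hp₀ _
  have hjfst : j ≫ pullback.fst G.hom t = π ≫ d.left ≫ pullback.fst G.hom (Red.geomPt s') := by
    show (eψ ≫ e) ≫ _ = _
    rw [Category.assoc, R.lift_fst, ← Category.assoc, ← Category.assoc]
    congr 1
    exact (Groth.GrpschAbsch.FibreFlat.isPullback_map ψ d).w.symm
  have hsub : Set.range j.base ⊆ closure (Set.range iQ.base) := by
    rintro _ ⟨p, rfl⟩
    refine closure_minimal (t := j.base ⁻¹' closure (Set.range iQ.base)) ?_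
      (isClosed_closure.preimage j.continuous) ((hdense.preimage π.isOpenMap) p)
    intro p hp
    obtain ⟨l, v, hv⟩ := Set.mem_iUnion.1 (show π.base p ∈ _ from hp)
    obtain ⟨z, hz⟩ := wordMap_lift c (Red.geomPt s') (comm (𝟙 H) (𝟙 H)) (fun Z z =>
      ⟨lift ((adj (Red.geomPt s')).symm (z ≫ fst H H)) ((adj (Red.geomPt s')).symm (z ≫ snd H H)), by
        rw [← adjGrp_apply, ← adjGrp_symm_comm, MulEquiv.apply_symm_apply]
        simp [Groth.Sga3.CommSpread.comm]
        rfl⟩) l _ (𝟙 _)
    rw [adj_comp, Category.id_comp, ← hw l] at hz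
    obtain ⟨a₀, ha₀⟩ : ∃ a₀, (sMap c l).left.base a₀ = (pullback.fst G.hom t).base (j.base p) := by
      refine ⟨(pullback.fst (sWord (G ⊗ G) l).hom (Red.geomPt s')).base ((adj (Red.geomPt s') z).left.base v), ?_⟩
      rw [← Scheme.Hom.comp_apply, (Groth.GrpschAbsch.FibreFlat.isPullback_map (Red.geomPt s') (sMap c l)).w,
        Scheme.Hom.comp_apply]
      have hl : ((Over.pullback (Red.geomPt s')).map (sMap c l)).left.base ((adj (Red.geomPt s') z).left.base v) =
          d.left.base (π.base p) := by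
        rw [← hv]
        exact congr(($hz).left.base v)
      exact (congrArg _ hl).trans congr(($hjfst).base p).symm
    obtain ⟨a, -, ha⟩ := Scheme.exists_preimage_of_isPullback
      (Groth.GrpschAbsch.FibreFlat.isPullback_map t (sMap c l)) a₀ (j.base p) ha₀
    haveI : Flat (sWord (G ⊗ G) l).hom := by
      haveI : Flat (G ⊗ G).hom := inferInstanceAs (Flat (pullback.fst G.hom G.hom ≫ G.hom))
      exact flat_sWord l
    haveI : Flat (Red.bc t (sWord (G ⊗ G) l)).hom := inferInstanceAs (Flat (pullback.snd _ t))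
    have hsp : (⟨⊥, Ideal.isPrime_bot⟩ : PrimeSpectrum A) ⤳ (Red.bc t (sWord (G ⊗ G) l)).hom.base a := by
      rw [← PrimeSpectrum.le_iff_specializes]
      exact bot_le (a := ((Red.bc t (sWord (G ⊗ G) l)).hom.base a).asIdeal)
    obtain ⟨a', ha', ha'b⟩ := Flat.generalizingMap (Red.bc t (sWord (G ⊗ G) l)).hom hsp
    let M := ((Over.pullback t).map (sMap c l)).left
    have hq'b : Q.hom.base (M.base a') = (⟨⊥, Ideal.isPrime_bot⟩ : PrimeSpectrum A) := by
      rw [← Scheme.Hom.comp_apply, Over.w ((Over.pullback t).map (sMap c l))]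
      exact ha'b
    obtain ⟨b, hb⟩ := hj₁ _ hq'b
    have hbU : (sMap c l).left.base ((pullback.fst _ t).base a') = (pullback.fst G.hom (Red.geomPt s)).base b := by
      rw [← Scheme.Hom.comp_apply, (Groth.GrpschAbsch.FibreFlat.isPullback_map t (sMap c l)).w,
        Scheme.Hom.comp_apply]
      refine (congrArg _ hb.symm).trans ?_
      rw [← Scheme.Hom.comp_apply, R.lift_fst]
      rfl
    obtain ⟨b', -, hb'⟩ := Scheme.exists_preimage_of_isPullback
      (Groth.GrpschAbsch.FibreFlat.isPullback_map (Red.geomPt s) (sMap c l)) _ b hbU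
    obtain ⟨v', hv'⟩ := hN l ⟨b', hb'⟩
    have hmem : M.base a' ∈ Set.range iQ.base := ⟨v', by rw [Scheme.Hom.comp_apply, hv', hb]⟩
    have hspec : M.base a' ⤳ j.base p := ha ▸ ha'.map M.continuous
    exact hspec.mem_closed isClosed_closure (subset_closure hmem)
  have hb : ∀ v : N.left, Order.height v ≤ (n : ℕ∞) := fun v => by
    have h1 := (le_iSup (fun x : N.left => ((Order.height x : ℕ∞) : WithBot ℕ∞)) v).trans
      ((Groth.Variety2.Dim.dim_eq_iSup_height N.left).symm.le.trans hdim)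
    exact WithBot.coe_le_coe.1 h1
  refine le_trans (Groth.DescentBase.topologicalKrullDim_le_of_generalizing π.base
    (Flat.generalizingMap π) π.surjective) ?_
  rw [Groth.Variety2.Dim.dim_eq_iSup_height]
  exact iSup_le fun x => WithBot.coe_le_coe.2
    (height_le_of_closure Q.hom iQ hiE (fun v => hbot _ ) hicl hb j hj hsub x)

end Groth.Sga3.DerDim
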