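import Groth.Prelude.Def_Red
import Mathlib.AlgebraicGeometry.Morphisms.Integral
import Mathlib.AlgebraicGeometry.Morphisms.Preimmersion
import Mathlib.RingTheory.Valuation.ValuationSubring
import Mathlib.RingTheory.Valuation.LocalSubring

/-!
A valuation ring joining the geometric points over a specialization.
-/

set_option autoImplicit false

universe u

open CategoryTheory CategoryTheory.Limits AlgebraicGeometry

noncomputable section

namespace Groth.Sga3.DerDim

theorem exists_valuation_geomPt {S : Scheme.{u}} {s s' : S} (hs : s ⤳ s') :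
    ∃ (A : Type u) (_ : CommRing A) (_ : IsDomain A) (_ : ValuationRing A)
      (t : Spec (CommRingCat.of A) ⟶ S)
      (t₁ : Spec (CommRingCat.of (AlgebraicClosure (S.residueField s))) ⟶ Spec (CommRingCat.of A))
      (F : Type u) (_ : Field F) (t₀ : Spec (CommRingCat.of F) ⟶ Spec (CommRingCat.of A))
      (ψ : Spec (CommRingCat.of F) ⟶ Spec (CommRingCat.of (AlgebraicClosure (S.residueField s')))),
      IsPreimmersion t₁ ∧ IsIntegralHom t₀ ∧ t₁ ≫ t = Red.geomPt s ∧ t₀ ≫ t = ψ ≫ Red.geomPt s' ∧
      (∀ p, t₁.base p = (⟨⊥, Ideal.isPrime_bot⟩ : PrimeSpectrum A)) ∧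
      (∀ p, t₀.base p = IsLocalRing.closedPoint A) := by
  let K := AlgebraicClosure (S.residueField s)
  let θ : S.presheaf.stalk s' ⟶ CommRingCat.of K :=
    S.presheaf.stalkSpecializes hs ≫ S.residue s ≫ CommRingCat.ofHom (algebraMap (S.residueField s) K)
  obtain ⟨A, hA, hloc⟩ := IsLocalRing.exists_factor_valuationRing θ.hom
  let φ : S.presheaf.stalk s' →+* A := θ.hom.codRestrict A.toSubring hA
  haveI : IsLocalHom φ := hloc
  let res : S.residueField s' →+* IsLocalRing.ResidueField A := IsLocalRing.ResidueField.map φ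
  let k₀ := IsLocalRing.ResidueField A
  let F := AlgebraicClosure k₀
  let r : S.residueField s' →+* F := (algebraMap k₀ F).comp res
  letI : Algebra (S.residueField s') F := r.toAlgebra
  let ι' : AlgebraicClosure (S.residueField s') →ₐ[S.residueField s'] F := IsAlgClosed.lift
  let a : A →+* F := (algebraMap k₀ F).comp (IsLocalRing.residue A)
  refine ⟨A, inferInstance, inferInstance, inferInstance, Spec.map (CommRingCat.ofHom φ) ≫ S.fromSpecStalk s',
    Spec.map (CommRingCat.ofHom A.subtype), F, inferInstance, Spec.map (CommRingCat.ofHom a),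
    Spec.map (CommRingCat.ofHom ι'.toRingHom), ?_, ?_, ?_, ?_, ?_, ?_⟩
  · exact IsPreimmersion.of_isLocalization (S := K) (nonZeroDivisors A)
  · rw [IsIntegralHom.SpecMap_iff]
    show a.IsIntegral
    exact RingHom.IsIntegral.trans (IsLocalRing.residue A) (algebraMap k₀ F)
      (RingHom.isIntegral_of_surjective _ IsLocalRing.residue_surjective)
      (fun x => Algebra.IsIntegral.isIntegral x)
  · rw [← Spec.map_comp_assoc,
      show CommRingCat.ofHom φ ≫ CommRingCat.ofHom A.subtype = θ from rfl, Spec.map_comp, Spec.map_comp,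
      Category.assoc, Category.assoc, Scheme.SpecMap_stalkSpecializes_fromSpecStalk]
    rfl
  · have h1 : CommRingCat.ofHom φ ≫ CommRingCat.ofHom a =
        S.residue s' ≫ CommRingCat.ofHom (algebraMap (S.residueField s') (AlgebraicClosure (S.residueField s'))) ≫
          CommRingCat.ofHom ι'.toRingHom := by
      ext x
      exact ((congrArg (algebraMap k₀ F) (IsLocalRing.ResidueField.map_residue φ x).symm).trans
        (ι'.commutes (S.residue s' x)).symm)
    rw [← Spec.map_comp_assoc, h1, Spec.map_comp, Spec.map_comp, Category.assoc, Category.assoc]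
    rfl
  · intro p
    refine PrimeSpectrum.ext ?_
    show p.asIdeal.comap A.subtype = ⊥
    rw [show p.asIdeal = ⊥ from (Ideal.eq_bot_or_top _).resolve_right p.isPrime.ne_top, ← RingHom.ker_eq_comap_bot]
    exact (RingHom.injective_iff_ker_eq_bot _).1 Subtype.val_injective
  · intro p
    refine PrimeSpectrum.ext ?_
    show p.asIdeal.comap a = IsLocalRing.maximalIdeal A
    rw [show p.asIdeal = ⊥ from (Ideal.eq_bot_or_top _).resolve_right p.isPrime.ne_top, ← RingHom.ker_eq_comap_bot,
      RingHom.ker_comp_of_injective _ (algebraMap k₀ F).injective]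
    exact IsLocalRing.ker_residue

end Groth.Sga3.DerDim
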